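import Mathlib

/-!
# S4932/S4953, orthogonal groups in their own characteristic: arithmetic (helper725)
-/

set_option autoImplicit false

namespace Cfsg.Agent.H725.BD

/-- from the degree of the Harish-Chandra induced character to the degree of a constituent of the restriction -/
theorem dvd_eight {p X e dg y : ℕ} (hp : p.Prime) (hX : X.Coprime p) (hd : X ∣ p ^ y * dg)
    (h1 : ∀ t a, t.Prime → t ≠ 2 → t ^ a ∣ dg → t ^ a ∣ e) (h3 : ∀ a, 2 ^ (a + 3) ∣ dg → 2 ^ a ∣ e) :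
    X ∣ (if p = 2 then 1 else 8) * e := by
  have hXd : X ∣ dg := (hX.pow_right y).dvd_of_dvd_mul_left hd
  have key : X ∣ 8 * e := by
    rw [Nat.dvd_iff_prime_pow_dvd_dvd]
    intro t k ht hk
    have h4 := hk.trans hXd
    by_cases h2 : t = 2
    · subst h2
      by_cases hk3 : k ≤ 3
      · exact ((pow_dvd_pow 2 hk3).trans (by norm_num)).trans (Nat.dvd_mul_right 8 e)
      · obtain ⟨j, rfl⟩ : ∃ j, k = j + 3 := ⟨k - 3, by omega⟩
        rw [pow_add, mul_comm]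
        exact Nat.mul_dvd_mul (by norm_num) (h3 j h4)
    · exact (h1 t k ht h2 h4).trans (Nat.dvd_mul_left _ _)
  split_ifs with h
  · subst h
    rw [one_mul]
    have h8 : X.Coprime (2 ^ 3) := hX.pow_right 3
    exact h8.dvd_of_dvd_mul_left (by simpa using key)
  · exact key

theorem fin {t o c e G Y X : ℕ} (hX : X ∣ t * e) (hG : G * Y ∣ X) (ht : t ∣ Y) (hlt : t * (o * c) < Y) (he : 0 < e)
    (hG0 : 0 < G) (ht0 : 0 < t) : G ∣ e ∧ o * (c * G) < e := by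
  obtain ⟨Z, rfl⟩ := ht
  have h1 : G * Z ∣ e := by
    have h2 : t * (G * Z) ∣ t * e := by
      rw [show t * (G * Z) = G * (t * Z) by ring]
      exact hG.trans hX
    exact Nat.dvd_of_mul_dvd_mul_left ht0 h2
  refine ⟨(Nat.dvd_mul_right _ _).trans h1, ?_⟩
  have h2 : o * c < Z := Nat.lt_of_mul_lt_mul_left hlt
  calc o * (c * G) = G * (o * c) := by ring
    _ < G * Z := Nat.mul_lt_mul_of_pos_left h2 hG0
    _ ≤ e := Nat.le_of_dvd he h1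

theorem coprime_pow_sub_one {q p a : ℕ} (hp : p.Prime) (hpq : p ∣ q) (hq : 0 < q) (ha : a ≠ 0) : (q ^ a - 1).Coprime p := by
  rw [Nat.coprime_comm, hp.coprime_iff_not_dvd]
  intro h
  have h1 : p ∣ q ^ a := hpq.trans (dvd_pow_self q ha)
  have h2 : 1 ≤ q ^ a := Nat.one_le_pow _ _ hq
  have h3 := (Nat.dvd_sub h1 h)
  rw [show q ^ a - (q ^ a - 1) = 1 by omega] at h3
  exact hp.one_lt.ne' (Nat.dvd_one.1 h3)

theorem coprime_pow_add_one {q p a : ℕ} (hp : p.Prime) (hpq : p ∣ q) (ha : a ≠ 0) : (q ^ a + 1).Coprime p := by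
  rw [Nat.coprime_comm, hp.coprime_iff_not_dvd]
  intro h
  have h1 : p ∣ q ^ a := hpq.trans (dvd_pow_self q ha)
  have h3 := (Nat.dvd_add_right h1).1 h
  exact hp.one_lt.ne' (Nat.dvd_one.1 h3)

theorem coprime_prod {q p : ℕ} (hp : p.Prime) (hpq : p ∣ q) (hq : 0 < q) (s : Finset ℕ) :
    (∏ i ∈ s, (q ^ (2 * (i + 1)) - 1)).Coprime p :=
  Nat.Coprime.prod_left fun _ _ => coprime_pow_sub_one hp hpq hq (by omega)

theorem sq_sub (q a : ℕ) : q ^ (2 * a) - 1 = (q ^ a - 1) * (q ^ a + 1) := by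
  rw [mul_comm 2 a, pow_mul, mul_comm (q ^ a - 1), ← Nat.sq_sub_sq, one_pow]

theorem eight_dvd {q : ℕ} (hq : Odd q) : 8 ∣ q ^ 2 - 1 := by
  obtain ⟨k, rfl⟩ := hq
  have h1 : (2 * k + 1) ^ 2 - 1 = 4 * (k * (k + 1)) := by
    rw [show (2 * k + 1) ^ 2 = 4 * (k * (k + 1)) + 1 by ring]
    simp
  rw [h1]
  obtain ⟨j, hj⟩ := Nat.even_mul_succ_self k
  rw [hj]
  exact ⟨j, by ring⟩

/-- the power of `q` in `A` -/
theorem exists_quot {A q c s N : ℕ} (h : A * s = q ^ c * N) (hc : (q ^ c).Coprime s) (hq : 0 < q) :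
    ∃ G, A = q ^ c * G ∧ G * s = N := by
  have h1 : q ^ c ∣ A := hc.dvd_of_dvd_mul_right (Dvd.intro _ h.symm)
  obtain ⟨G, rfl⟩ := h1
  refine ⟨G, rfl, ?_⟩
  rw [mul_assoc] at h
  exact Nat.eq_of_mul_eq_mul_left (pow_pos hq c) h

theorem coprime_sq {q : ℕ} (hq : 0 < q) (c : ℕ) : (q ^ c).Coprime (q ^ 2 - 1) := by
  apply Nat.Coprime.pow_left
  have h1 : 1 ≤ q ^ 2 := Nat.one_le_pow _ _ hq
  have h2 : (q ^ 2).Coprime (q ^ 2 - 1) := by
    have := (Nat.coprime_self_sub_right h1).2 (Nat.coprime_one_right (q ^ 2))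
    exact this
  exact Nat.Coprime.coprime_dvd_left (dvd_pow_self q two_ne_zero) h2

/-! ### plus -/

theorem plus_lt {q m G o : ℕ} (hq : 2 ≤ q) (hm : 4 ≤ m) (hG : G * (q ^ 2 - 1) = q ^ (2 * (m - 1)) - 1)
    (ho : o ≤ 24 * (q - 1)) (ho2 : q = 2 → o ≤ 6) : o < G := by
  have h1 : q ^ 6 ≤ q ^ (2 * (m - 1)) := Nat.pow_le_pow_right (by omega) (by omega)
  obtain ⟨r, rfl⟩ : ∃ r, q = r + 1 := ⟨q - 1, by omega⟩
  have hr : 1 ≤ r := by omega
  have h2 : (r + 1) ^ 2 - 1 = r * (r + 2) := by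
    rw [show (r + 1) ^ 2 = r * (r + 2) + 1 by ring]; simp
  have h3 : ((r + 1) ^ 4 + (r + 1) ^ 2 + 1) * (r * (r + 2)) + 1 = (r + 1) ^ 6 := by ring
  have h4 : (r + 1) ^ 4 + (r + 1) ^ 2 + 1 ≤ G := by
    rw [h2] at hG
    by_contra hcon
    push Not at hcon
    have h5 : G * (r * (r + 2)) < ((r + 1) ^ 4 + (r + 1) ^ 2 + 1) * (r * (r + 2)) :=
      Nat.mul_lt_mul_of_pos_right hcon (by positivity)
    omega
  refine lt_of_lt_of_le ?_ h4
  rcases Nat.lt_or_ge r 2 with h | h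
  · obtain rfl : r = 1 := by omega
    have := ho2 rfl
    omega
  · refine lt_of_le_of_lt ho ?_
    rw [Nat.add_sub_cancel]
    nlinarith [Nat.pow_le_pow_left h 2, Nat.pow_le_pow_left h 3, Nat.pow_le_pow_left h 4, sq_nonneg (r : ℤ)]

theorem plus_size {q o t : ℕ} (hq : 2 ≤ q) (ht : t = 8 ∧ 3 ≤ q ∧ o ≤ 24 * (q - 1) ∨ t = 1 ∧ o ≤ 6 * (q - 1)) :
    t * (o * q ^ 2) < (q ^ 2 - 1) * ((q ^ 2 - 1) * (q ^ 4 - 1)) := by
  obtain ⟨r, rfl⟩ : ∃ r, q = r + 1 := ⟨q - 1, by omega⟩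
  have hr : 1 ≤ r := by omega
  have h2 : (r + 1) ^ 2 - 1 = r * (r + 2) := by
    rw [show (r + 1) ^ 2 = r * (r + 2) + 1 by ring]; simp
  have h4 : (r + 1) ^ 4 - 1 = r * (r + 2) * (r ^ 2 + 2 * r + 2) := by
    rw [show (r + 1) ^ 4 = r * (r + 2) * (r ^ 2 + 2 * r + 2) + 1 by ring]; simp
  rw [h2, h4]
  rw [Nat.add_sub_cancel] at ht
  rcases ht with ⟨rfl, h3, ho⟩ | ⟨rfl, ho⟩
  · have hr2 : 2 ≤ r := by omega
    calc 8 * (o * (r + 1) ^ 2) ≤ 8 * (24 * r * (r + 1) ^ 2) := by gcongr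
      _ < r * ((r + 2) * (r * (r + 2)) * (r * (r + 2) * (r ^ 2 + 2 * r + 2))) := by
          rw [show 8 * (24 * r * (r + 1) ^ 2) = r * (192 * (r + 1) ^ 2) by ring]
          apply Nat.mul_lt_mul_of_pos_left _ (by omega)
          have h5 : 32 ≤ (r + 2) * (r * (r + 2)) := by nlinarith
          have h6 : 6 * (r + 1) ^ 2 < r * (r + 2) * (r ^ 2 + 2 * r + 2) := by nlinarith
          calc 192 * (r + 1) ^ 2 = 32 * (6 * (r + 1) ^ 2) := by ring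
            _ < 32 * (r * (r + 2) * (r ^ 2 + 2 * r + 2)) := by omega
            _ ≤ _ := Nat.mul_le_mul_right _ h5
      _ = _ := by ring
  · calc 1 * (o * (r + 1) ^ 2) ≤ 1 * (6 * r * (r + 1) ^ 2) := by gcongr
      _ < r * ((r + 2) * (r * (r + 2)) * (r * (r + 2) * (r ^ 2 + 2 * r + 2))) := by
          rw [show 1 * (6 * r * (r + 1) ^ 2) = r * (6 * (r + 1) ^ 2) by ring]
          apply Nat.mul_lt_mul_of_pos_left _ (by omega)
          have h5 : 9 ≤ (r + 2) * (r * (r + 2)) := by nlinarith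
          have h6 : 3 * (r + 1) ^ 2 ≤ r * (r + 2) * (r ^ 2 + 2 * r + 2) := by nlinarith
          have h7 : 0 < (r + 1) ^ 2 := by positivity
          calc 6 * (r + 1) ^ 2 < 9 * (3 * (r + 1) ^ 2) := by omega
            _ ≤ 9 * (r * (r + 2) * (r ^ 2 + 2 * r + 2)) := by omega
            _ ≤ _ := Nat.mul_le_mul_right _ h5
      _ = _ := by ring

/-! ### minus -/

theorem minus_lt {q m G o : ℕ} (hq : 2 ≤ q) (hm : 4 ≤ m) (hG : G * (q ^ 2 - 1) = (q ^ m + 1) * (q ^ (m - 2) - 1))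
    (ho : o ≤ 8 * (q - 1)) : o < G := by
  have h1 : q ^ 4 ≤ q ^ m := Nat.pow_le_pow_right (by omega) hm
  have h2 : q ^ 2 ≤ q ^ (m - 2) := Nat.pow_le_pow_right (by omega) (by omega)
  have h3 : 4 ≤ q ^ 2 := by nlinarith
  have h4 : q ^ 4 + 1 ≤ G := by
    by_contra hcon
    push Not at hcon
    have h5 : G * (q ^ 2 - 1) < (q ^ 4 + 1) * (q ^ 2 - 1) := Nat.mul_lt_mul_of_pos_right hcon (by omega)
    have h6 : (q ^ 4 + 1) * (q ^ 2 - 1) ≤ (q ^ m + 1) * (q ^ (m - 2) - 1) := Nat.mul_le_mul (by omega) (by omega)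
    omega
  refine lt_of_lt_of_le ?_ h4
  refine lt_of_le_of_lt ho ?_
  obtain ⟨r, rfl⟩ : ∃ r, q = r + 1 := ⟨q - 1, by omega⟩
  rw [Nat.add_sub_cancel]
  have hr : 1 ≤ r := by omega
  have h7 : r ≤ r ^ 2 := by nlinarith
  have h8 : r ≤ r ^ 4 := by nlinarith
  nlinarith [sq_nonneg r]

theorem minus_size {q o t l : ℕ} (hq : 2 ≤ q) (hl : 3 ≤ l)
    (ht : t = 8 ∧ 3 ≤ q ∧ o ≤ 8 * (q - 1) ∨ t = 1 ∧ o ≤ 2 * (q - 1)) :
    t * (o * q) < (q ^ 2 - 1) * ((q - 1) * ((q ^ l + 1) * (q ^ (l - 1) + 1))) := by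
  have h1 : q ^ 3 ≤ q ^ l := Nat.pow_le_pow_right (by omega) hl
  have h2 : q ^ 2 ≤ q ^ (l - 1) := Nat.pow_le_pow_right (by omega) (by omega)
  have h3 : (q ^ 2 - 1) * ((q - 1) * ((q ^ 3 + 1) * (q ^ 2 + 1))) ≤
      (q ^ 2 - 1) * ((q - 1) * ((q ^ l + 1) * (q ^ (l - 1) + 1))) := by gcongr
  refine lt_of_lt_of_le ?_ h3
  obtain ⟨r, rfl⟩ : ∃ r, q = r + 1 := ⟨q - 1, by omega⟩
  have hr : 1 ≤ r := by omega
  have h4 : (r + 1) ^ 2 - 1 = r * (r + 2) := by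
    rw [show (r + 1) ^ 2 = r * (r + 2) + 1 by ring]; simp
  rw [h4]
  rw [Nat.add_sub_cancel] at ht ⊢
  have h9 : 9 ≤ (r + 1) ^ 3 + 1 := by nlinarith [Nat.pow_le_pow_left (show 2 ≤ r + 1 by omega) 3]
  have h10 : r + 1 ≤ (r + 1) ^ 2 + 1 := by nlinarith
  rcases ht with ⟨rfl, h5, ho⟩ | ⟨rfl, ho⟩
  · have hr2 : 2 ≤ r := by omega
    have h11 : 8 ≤ r * (r + 2) := by nlinarith
    calc 8 * (o * (r + 1)) ≤ 8 * (8 * r * (r + 1)) := by gcongr
      _ = 8 * (r * (8 * (r + 1))) := by ring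
      _ < 8 * (r * (9 * (r + 1))) := by
          have : 0 < r * (r + 1) := by positivity
          nlinarith
      _ ≤ r * (r + 2) * (r * (((r + 1) ^ 3 + 1) * ((r + 1) ^ 2 + 1))) := by gcongr
  · have h11 : 3 ≤ r * (r + 2) := by nlinarith
    calc 1 * (o * (r + 1)) ≤ 1 * (2 * r * (r + 1)) := by gcongr
      _ = 1 * (r * (2 * (r + 1))) := by ring
      _ < 3 * (r * (9 * (r + 1))) := by
          have : 0 < r * (r + 1) := by positivity
          nlinarith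
      _ ≤ r * (r + 2) * (r * (((r + 1) ^ 3 + 1) * ((r + 1) ^ 2 + 1))) := by gcongr

/-! ### odd -/

theorem odd_lt {q m G o : ℕ} (hq : 3 ≤ q) (hm : 3 ≤ m) (hG : G * (2 * (q - 1)) = (q ^ m + 1) * (q ^ (m - 1) - 1))
    (ho : o ≤ 2 * (q - 1)) : o < G := by
  have h1 : q ^ 3 ≤ q ^ m := Nat.pow_le_pow_right (by omega) hm
  have h2 : q ^ 2 ≤ q ^ (m - 1) := Nat.pow_le_pow_right (by omega) (by omega)
  obtain ⟨r, rfl⟩ : ∃ r, q = r + 1 := ⟨q - 1, by omega⟩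
  rw [Nat.add_sub_cancel] at hG ho
  have hr : 2 ≤ r := by omega
  have h3 : r * (r + 2) ≤ (r + 1) ^ (m - 1) - 1 := by
    have : (r + 1) ^ 2 = r * (r + 2) + 1 := by ring
    omega
  have h4 : (r + 1) ^ 3 * (r * (r + 2)) ≤ G * (2 * r) := by
    rw [hG]
    exact Nat.mul_le_mul (by omega) h3
  by_contra hcon
  push Not at hcon
  have h5 : G * (2 * r) ≤ 2 * r * (2 * r) := Nat.mul_le_mul_right _ (hcon.trans ho)
  have h6 : (r + 1) ^ 3 * (r * (r + 2)) ≤ 2 * r * (2 * r) := h4.trans h5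
  have h7 : r ^ 2 * 8 ≤ (r + 1) ^ 3 * (r * (r + 2)) := by
    calc r ^ 2 * 8 = 8 * (r * r) := by ring
      _ ≤ (r + 1) ^ 3 * (r * (r + 2)) := by
        apply Nat.mul_le_mul
        · calc 8 = 2 ^ 3 := by norm_num
            _ ≤ (r + 1) ^ 3 := Nat.pow_le_pow_left (by omega) 3
        · exact Nat.mul_le_mul_left _ (by omega)
  have h8 : 0 < r ^ 2 := by positivity
  nlinarith

theorem odd_size {q o m : ℕ} (hq : 3 ≤ q) (hm : 3 ≤ m) (ho : o ≤ 2 * (q - 1)) :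
    8 * (o * q) < (q ^ 2 - 1) * (2 * (q - 1) * (q ^ (m - 1) + 1)) := by
  have h2 : q ^ 2 ≤ q ^ (m - 1) := Nat.pow_le_pow_right (by omega) (by omega)
  have h3 : (q ^ 2 - 1) * (2 * (q - 1) * (q ^ 2 + 1)) ≤ (q ^ 2 - 1) * (2 * (q - 1) * (q ^ (m - 1) + 1)) := by gcongr
  refine lt_of_lt_of_le ?_ h3
  obtain ⟨r, rfl⟩ : ∃ r, q = r + 1 := ⟨q - 1, by omega⟩
  have h4 : (r + 1) ^ 2 - 1 = r * (r + 2) := by
    rw [show (r + 1) ^ 2 = r * (r + 2) + 1 by ring]; simp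
  rw [h4]
  rw [Nat.add_sub_cancel] at ho ⊢
  have hr : 2 ≤ r := by omega
  have h11 : 8 ≤ r * (r + 2) := by nlinarith
  have h10 : r + 1 < (r + 1) ^ 2 + 1 := by nlinarith
  calc 8 * (o * (r + 1)) ≤ 8 * (2 * r * (r + 1)) := by gcongr
    _ < 8 * (2 * r * ((r + 1) ^ 2 + 1)) := by
        have : 2 * r * (r + 1) < 2 * r * ((r + 1) ^ 2 + 1) := Nat.mul_lt_mul_of_pos_left h10 (by omega)
        omega
    _ ≤ _ := by gcongr

end Cfsg.Agent.H725.BD
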